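import Mathlib
import Cfsg.Agent.Coprime.Action

/-!
# Hall's factorisation of Sylow numbers

For a normal subgroup `N`, `card_sylow_eq` says `n_p(G) = n_p(G/N) * n_p(N) * c`, where every
prime-power part of `c` is `1` modulo `p`.
-/

set_option autoImplicit false
set_option linter.unusedSectionVars false

namespace CfsgLib.SylowNumber

open scoped Pointwise
open MulAction Subgroup

variable {G : Type*} [Group G] [Finite G] {p : ℕ} [Fact p.Prime]

/-- The prime-power parts of the index of the centraliser of a `p`-group acting on a `p'`-group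
are `1` modulo `p`. -/
theorem ordProj_relIndex_centralizer (Y A : Subgroup G) [Y.Normal] (hA : IsPGroup p A)
    (hY : ¬ p ∣ Nat.card Y) {l : ℕ} (hl : l.Prime) :
    l ^ (((centralizer (A : Set G))).relIndex Y).factorization l ≡ 1 [MOD p] := by
  have := Fact.mk hl
  set C := centralizer (A : Set G)
  set c := C.relIndex Y
  have hc : c ∣ Nat.card Y := relIndex_dvd_card _ _
  have hAY : A ≤ normalizer (Y : Set G) := by rw [normalizer_eq_top]; exact le_top
  have hcop : (Nat.card A).Coprime (Nat.card Y) := by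
    obtain ⟨k, hk⟩ := hA.exists_card_eq
    rw [hk]
    exact Nat.Coprime.pow_left _ ((Fact.out : p.Prime).coprime_iff_not_dvd.mpr hY)
  have hsolv : Group.IsSolvable A := by
    have := hA.isNilpotent
    infer_instance
  obtain ⟨T⟩ : Nonempty (Sylow l ↥(Y ⊓ C)) := Sylow.nonempty
  set U : Subgroup G := (T : Subgroup ↥(Y ⊓ C)).map (Y ⊓ C).subtype with hU
  have hUle : U ≤ Y ⊓ C := map_subtype_le _
  have hUA : A ≤ normalizer (U : Set G) := by
    refine le_trans ?_ (centralizer_le_normalizer (U : Set G))
    intro a ha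
    rw [mem_centralizer_iff]
    intro u hu
    exact ((mem_centralizer_iff.mp (hUle hu).2) a ha).symm
  obtain ⟨S, hUS, hAS⟩ := Coprime.exists_invariant_sylow_ge hAY hcop (Or.inl hsolv)
    (hUle.trans inf_le_left) (T.2.map _) hUA
  set S' : Subgroup G := (S : Subgroup Y).map Y.subtype with hS'
  have hS'card : Nat.card S' = l ^ (Nat.card Y).factorization l := by
    rw [hS', card_map_of_injective Y.subtype_injective, S.card_eq_multiplicity]
  have hUcard : Nat.card U = l ^ (Nat.card ↥(Y ⊓ C)).factorization l := by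
    rw [hU, card_map_of_injective (Y ⊓ C).subtype_injective, T.card_eq_multiplicity]
  have hfix : Nat.card ↥(S' ⊓ C) = Nat.card U := by
    refine Nat.dvd_antisymm ?_ (card_dvd_of_le (le_inf hUS (hUle.trans inf_le_right)))
    have h1 : IsPGroup l ↥(S' ⊓ C) := (S.2.map Y.subtype).to_le inf_le_left
    obtain ⟨k, hk⟩ := h1.exists_card_eq
    rw [hUcard, hk]
    refine pow_dvd_pow l ((hl.pow_dvd_iff_le_factorization Nat.card_pos.ne').mp ?_)
    rw [← hk]
    exact card_dvd_of_le (inf_le_inf (map_subtype_le _) le_rfl)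
  let φ : ↥A →* MulAut ↥S' := S'.normalizerMonoidHom.comp (Subgroup.inclusion hAS)
  let _ : MulAction ↥A ↥S' := MulAction.compHom _ φ
  have hmod := hA.card_modEq_card_fixedPoints ↥S'
  have hfixed : Nat.card (fixedPoints ↥A ↥S') = Nat.card ↥(S' ⊓ C) := by
    refine Nat.card_congr
      ⟨fun s => ⟨s.1.1, s.1.2, mem_centralizer_iff.mpr fun a ha => ?_⟩,
        fun s => ⟨⟨s.1, s.2.1⟩, fun a => Subtype.ext ?_⟩, fun _ => rfl, fun _ => rfl⟩
    · have := congrArg Subtype.val (s.2 ⟨a, ha⟩)
      change a * s.1.1 * a⁻¹ = s.1.1 at this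
      exact mul_inv_eq_iff_eq_mul.mp this
    · change (a : G) * s.1 * (a : G)⁻¹ = s.1
      exact mul_inv_eq_iff_eq_mul.mpr (mem_centralizer_iff.mp s.2.2 a a.2)
  rw [hfixed, hfix, hS'card, hUcard] at hmod
  have hY' : Nat.card ↥(Y ⊓ C) * c = Nat.card Y := by
    rw [show c = (Y ⊓ C).relIndex Y by rw [inf_comm, inf_relIndex_right]]
    simpa using relIndex_mul_relIndex (⊥ : Subgroup G) (Y ⊓ C) Y bot_le inf_le_left
  have hc0 : c ≠ 0 := fun h => (Nat.card_pos (α := Y)).ne' (by rw [← hY', h, mul_zero])
  rw [← hY', Nat.factorization_mul Nat.card_pos.ne' hc0, Finsupp.add_apply, pow_add] at hmod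
  refine Nat.ModEq.cancel_left_of_coprime ?_ (hmod.trans (by rw [mul_one]))
  refine (Fact.out : p.Prime).coprime_iff_not_dvd.mpr fun h => hY ?_
  exact h.trans ((Nat.ordProj_dvd _ l).trans (card_dvd_of_le inf_le_left))

/-- `n_p(G)` is `n_p(G/N)` times the number of conjugates of `P` under `N`. -/
theorem card_sylow_eq_mul_relIndex (N : Subgroup G) [N.Normal] (P : Sylow p G) :
    Nat.card (Sylow p G) = Nat.card (Sylow p (G ⧸ N)) *
      (normalizer ((P : Subgroup G) : Set G)).relIndex N := by
  set M := (P : Subgroup G) ⊔ N with hM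
  set Pb : Sylow p (G ⧸ N) := P.mapSurjective (QuotientGroup.mk'_surjective N) with hPb
  have hcomap : (normalizer ((Pb : Subgroup (G ⧸ N)) : Set (G ⧸ N))).comap (QuotientGroup.mk' N) =
      normalizer (M : Set G) := by
    rw [Subgroup.comap_normalizer_eq_of_surjective _ (QuotientGroup.mk'_surjective N), hPb,
      Sylow.coe_mapSurjective, comap_map_eq, QuotientGroup.ker_mk']
  have hle : normalizer ((P : Subgroup G) : Set G) ≤ normalizer (M : Set G) := fun g hg => by
    rw [mem_normalizer_iff_map_conj_eq]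
    have h1 : MulAut.conj g • (P : Subgroup G) = (P : Subgroup G) :=
      mem_normalizer_iff_map_conj_eq.mp hg
    have h2 : MulAut.conj g • N = N := Subgroup.Normal.conj_smul_eq_self g N
    have h3 : MulAut.conj g • M = M := by rw [hM, Subgroup.smul_sup, h1, h2]
    exact h3
  rw [P.card_eq_index_normalizer, Pb.card_eq_index_normalizer, ← Sylow.coe_coe, ← Sylow.coe_coe Pb,
    ← index_comap_of_surjective _ (QuotientGroup.mk'_surjective N), hcomap,
    ← relIndex_mul_index hle, mul_comm]
  congr 1
  -- both sides count the conjugates of `P`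
  have key : ∀ K : Subgroup G, (normalizer ((P : Subgroup G) : Set G)).relIndex K =
      Nat.card (orbit K P) := fun K => by
    rw [Nat.card_congr (orbitEquivQuotientStabilizer K P)]
    show ((normalizer ((P : Subgroup G) : Set G)).subgroupOf K).index = (stabilizer K P).index
    congr 1
    ext k
    rw [mem_subgroupOf, mem_stabilizer_iff, Subgroup.smul_def, Sylow.smul_eq_iff_mem_normalizer, Sylow.coe_coe]
  rw [key, key]
  have horb : orbit (normalizer (M : Set G)) P = orbit N P := by
    apply Set.Subset.antisymm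
    · rintro _ ⟨⟨g, hg⟩, rfl⟩
      have hPM : (P : Subgroup G) ≤ M := le_sup_left
      have hgP : ((g • P : Sylow p G) : Subgroup G) ≤ M := by
        rintro x ⟨y, hy, rfl⟩
        exact (mem_normalizer_iff.mp hg y).mp (hPM hy)
      obtain ⟨m, hm⟩ := exists_smul_eq ↥M (P.subtype hPM) ((g • P).subtype hgP)
      rw [Sylow.smul_subtype] at hm
      have hm' : (m : G) • P = g • P := Sylow.subtype_injective hm
      obtain ⟨a, ha, n, hn, hmn⟩ := mem_sup_of_normal_right.mp m.2
      refine ⟨⟨a * n * a⁻¹, (inferInstance : N.Normal).conj_mem n hn a⟩, ?_⟩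
      show (a * n * a⁻¹) • P = g • P
      rw [← hm', ← hmn, mul_smul, Sylow.smul_eq_iff_mem_normalizer.mpr (inv_mem (le_normalizer ha))]
    · rintro _ ⟨⟨n, hn⟩, rfl⟩
      exact ⟨⟨n, le_normalizer ((le_sup_right : N ≤ M) hn)⟩, rfl⟩
  rw [horb]

/-- Hall: `n_p(G) = n_p(G/N) n_p(N) c` with all prime-power parts of `c` congruent to `1`. -/
theorem card_sylow_eq (N : Subgroup G) [N.Normal] :
    ∃ c : ℕ, c ∣ Nat.card G ∧
      Nat.card (Sylow p G) = Nat.card (Sylow p (G ⧸ N)) * Nat.card (Sylow p N) * c ∧
      ∀ l : ℕ, l.Prime → l ^ c.factorization l ≡ 1 [MOD p] := by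
  obtain ⟨P⟩ : Nonempty (Sylow p G) := Sylow.nonempty
  set R := (P : Subgroup G) ⊓ N with hR
  set X := normalizer (R : Set G) with hX
  set NP := normalizer ((P : Subgroup G) : Set G) with hNP
  have hNPX : NP ≤ X := by
    intro g hg
    rw [hX, mem_normalizer_iff_map_conj_eq]
    have h1 : MulAut.conj g • (P : Subgroup G) = (P : Subgroup G) :=
      mem_normalizer_iff_map_conj_eq.mp hg
    have h2 : MulAut.conj g • N = N := Subgroup.Normal.conj_smul_eq_self g N
    have h3 : MulAut.conj g • R = R := by rw [hR, Subgroup.smul_inf, h1, h2]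
    exact h3
  have hPX : (P : Subgroup G) ≤ X := le_normalizer.trans hNPX
  obtain ⟨Q, hQ⟩ : ∃ Q : Sylow p N, (Q : Subgroup N) = R.subgroupOf N := by
    have hRp : IsPGroup p (R.subgroupOf N) :=
      (P.2.to_le inf_le_left).comap_of_injective _ N.subtype_injective
    have hidx : ¬ p ∣ (R.subgroupOf N).index := by
      change ¬ p ∣ R.relIndex N
      rw [hR, inf_relIndex_right, ← relIndex_sup_right_of_normal_aux N P]
      exact fun h => P.not_dvd_index' Subgroup.index_ne_zero_of_finite
        (h.trans (relIndex_dvd_index_of_le le_sup_left))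
    exact ⟨hRp.toSylow hidx, rfl⟩
  have hN : X.relIndex N = Nat.card (Sylow p N) := by
    rw [Q.card_eq_index_normalizer, ← Sylow.coe_coe, hQ, hX, relIndex,
      subgroupOf_normalizer_eq inf_le_right]
  refine ⟨NP.relIndex (X ⊓ N), (relIndex_dvd_card _ _).trans (card_subgroup_dvd_card _), ?_, ?_⟩
  · rw [card_sylow_eq_mul_relIndex N P, mul_assoc, ← hN]
    congr 1
    rw [← inf_relIndex_right NP N, ← inf_relIndex_right X N, mul_comm,
      ← inf_relIndex_right NP (X ⊓ N), show NP ⊓ (X ⊓ N) = NP ⊓ N by
        rw [← inf_assoc, inf_eq_left.mpr hNPX],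
      relIndex_mul_relIndex _ _ _ (inf_le_inf_right N hNPX) inf_le_right]
  · intro l hl
    set R' := R.subgroupOf X
    have hnR : R'.Normal := normal_in_normalizer
    set f := QuotientGroup.mk' R'
    set P' := (P : Subgroup G).subgroupOf X
    set Y' := N.subgroupOf X
    have hfsurj : Function.Surjective f := QuotientGroup.mk'_surjective _
    have hnY : Y'.Normal := inferInstance
    have hY : (Y'.map f).Normal := hnY.map f hfsurj
    have hYp : ¬ p ∣ Nat.card (Y'.map f) := by
      intro h
      have hRY : R' ≤ Y' := comap_mono inf_le_right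
      have h1 : Nat.card R' * R'.relIndex Y' = Nat.card Y' := by
        simpa using relIndex_mul_relIndex (⊥ : Subgroup X) R' Y' bot_le hRY
      rw [← relIndex_ker, QuotientGroup.ker_mk'] at h
      have h2 : R'.relIndex Y' = R.relIndex (X ⊓ N) := by
        have : Y' = (X ⊓ N).subgroupOf X := by rw [inf_comm, inf_subgroupOf_right]
        rw [this, relIndex_subgroupOf inf_le_left]
      rw [h2] at h
      have h3 : R.relIndex (X ⊓ N) * (X ⊓ N).relIndex N = R.relIndex N :=
        relIndex_mul_relIndex _ _ _ (le_inf le_normalizer inf_le_right) inf_le_right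
      refine P.not_dvd_index' Subgroup.index_ne_zero_of_finite ((h.trans ⟨_, h3.symm⟩).trans ?_)
      rw [hR, inf_relIndex_right, ← relIndex_sup_right_of_normal_aux N P]
      exact relIndex_dvd_index_of_le le_sup_left
    have hA : IsPGroup p (P'.map f) :=
      (P.2.comap_of_injective _ X.subtype_injective).map f
    have hP'f : (P'.map f).comap f = P' := by
      rw [comap_map_eq_self]
      rw [QuotientGroup.ker_mk']
      exact comap_mono inf_le_left
    have hRP : Disjoint (P'.map f) (Y'.map f) := by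
      obtain ⟨k, hk⟩ := hA.exists_card_eq
      refine disjoint_iff.mpr (eq_bot_of_card_eq _ ?_)
      refine Nat.eq_one_of_dvd_coprimes ?_ (card_dvd_of_le inf_le_left) (card_dvd_of_le inf_le_right)
      rw [hk]
      exact Nat.Coprime.pow_left _ ((Fact.out : p.Prime).coprime_iff_not_dvd.mpr hYp)
    have hCN : normalizer ((P'.map f : Subgroup _) : Set _) ⊓ Y'.map f =
        centralizer ((P'.map f : Subgroup _) : Set _) ⊓ Y'.map f := by
      refine le_antisymm (fun y hy => ⟨mem_centralizer_iff.mpr fun a ha => ?_, hy.2⟩)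
        (inf_le_inf_right _ (centralizer_le_normalizer _))
      have h1 : a * y * a⁻¹ * y⁻¹ ∈ P'.map f := by
        have := (mem_normalizer_iff.mp hy.1 a⁻¹).mp (inv_mem ha)
        simpa [mul_assoc] using mul_mem ha this
      have h2 : a * y * a⁻¹ * y⁻¹ ∈ Y'.map f :=
        mul_mem (hY.conj_mem y hy.2 a) (inv_mem hy.2)
      have h3 := disjoint_def.mp hRP h1 h2
      rw [mul_inv_eq_one, mul_inv_eq_iff_eq_mul] at h3
      exact h3
    have hkey := ordProj_relIndex_centralizer (p := p) (Y'.map f) (P'.map f) hA hYp hl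
    rw [← inf_relIndex_right, ← hCN, inf_relIndex_right, ← relIndex_comap,
      comap_normalizer_eq_of_surjective _ hfsurj, hP'f] at hkey
    have : (normalizer (P' : Set X)).relIndex Y' = NP.relIndex (X ⊓ N) := by
      rw [← subgroupOf_normalizer_eq hPX, show Y' = (X ⊓ N).subgroupOf X by
        rw [inf_comm, inf_subgroupOf_right], relIndex_subgroupOf inf_le_left]
    rwa [this] at hkey
where
  relIndex_sup_right_of_normal_aux (N P : Subgroup G) [N.Normal] :
      P.relIndex (P ⊔ N) = P.relIndex N := by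
    have hc : ∀ {U V : Subgroup G}, U ≤ V → Nat.card U * U.relIndex V = Nat.card V :=
      fun h => by simpa using Subgroup.relIndex_mul_relIndex (⊥ : Subgroup G) _ _ bot_le h
    have h1 := hc (le_sup_left : P ≤ P ⊔ N)
    have h2 := hc (le_sup_right : N ≤ P ⊔ N)
    rw [relIndex_sup_right] at h2
    have h3 := hc (inf_le_right : P ⊓ N ≤ N)
    have h4 := hc (inf_le_left : P ⊓ N ≤ P)
    rw [inf_relIndex_right] at h3
    rw [inf_relIndex_left] at h4
    apply Nat.eq_of_mul_eq_mul_left (Nat.card_pos (α := P))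
    rw [h1, ← h2, ← h3, ← h4]
    ring

end CfsgLib.SylowNumber
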