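import Cfsg.Agent.SylowNumber.Basic

/-!
# Maximal normal subgroups, for inductions on Sylow numbers
-/

set_option autoImplicit false

namespace CfsgLib.SylowNumber

/-- A nontrivial finite group has a proper normal subgroup with simple quotient. -/
theorem exists_normal_simple_quotient (G : Type*) [Group G] [Finite G] [Nontrivial G] :
    ∃ N : Subgroup G, ∃ _ : N.Normal, IsSimpleGroup (G ⧸ N) ∧ Nat.card N < Nat.card G := by
  classical
  obtain ⟨N, ⟨hN, hNtop⟩, hmax⟩ :=
    Set.Finite.exists_maximal (s := {N : Subgroup G | N.Normal ∧ N ≠ ⊤}) (Set.toFinite _)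
      ⟨⊥, inferInstance, bot_ne_top⟩
  refine ⟨N, hN, ?_, ?_⟩
  · have : Nontrivial (G ⧸ N) := QuotientGroup.nontrivial_iff.mpr hNtop
    refine ⟨fun K hK => ?_⟩
    set f := QuotientGroup.mk' N
    by_cases h : K.comap f = ⊤
    · right
      rw [← Subgroup.map_comap_eq_self_of_surjective (QuotientGroup.mk'_surjective N) K, h,
        Subgroup.map_top_of_surjective _ (QuotientGroup.mk'_surjective N)]
    · left
      have hle : N ≤ K.comap f := (QuotientGroup.ker_mk' N).ge.trans (f.ker_le_comap K)
      have := le_antisymm (hmax ⟨hK.comap f, h⟩ hle) hle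
      rw [← Subgroup.map_comap_eq_self_of_surjective (QuotientGroup.mk'_surjective N) K, this,
        QuotientGroup.map_mk'_self]
  · have h1 := Subgroup.card_mul_index N
    have h2 : 1 < N.index := by
      have := Subgroup.index_ne_zero_of_finite (H := N)
      have := mt Subgroup.index_eq_one.mp hNtop
      omega
    rw [← h1]
    exact lt_mul_of_one_lt_right Nat.card_pos h2

end CfsgLib.SylowNumber
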